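import Cfsg.Agent.Lib.Helper92.Co2.DataA

/-! # the Conway group Co2 on 4600 points: the basic permutations (generated) -/

set_option autoImplicit false
set_option maxRecDepth 100000

namespace Cfsg.Agent.Lib.Helper92.Co2

open Cfsg
open Cfsg.Agent.Lib.Helper27
open Cfsg.Agent.Lib.Helper92
open Cfsg.Agent.Lib.Helper92.PCY

theorem e_id : PCY.isId 4600 eC = true := by decide +kernel
theorem a_ok : invOK 4600 aC aiC = true := by decide +kernel
theorem z_ok : invOK 4600 zC zC = true := by decide +kernel
theorem b_ok : invOK 4600 bC biC = true := by decide +kernel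
theorem c_ok : invOK 4600 cC cC = true := by decide +kernel

def a : Equiv.Perm (Fin 4600) := pm 4600 aC aiC
def z : Equiv.Perm (Fin 4600) := pm 4600 zC zC
def b : Equiv.Perm (Fin 4600) := pm 4600 bC biC
def c : Equiv.Perm (Fin 4600) := pm 4600 cC cC

theorem ha : HasP a aC := hasP_pm a_ok
theorem hai : HasP a⁻¹ aiC := hasP_pm_inv a_ok
theorem hz : HasP z zC := hasP_pm z_ok
theorem hb : HasP b bC := hasP_pm b_ok
theorem hc : HasP c cC := hasP_pm c_ok

theorem pows_ok : powsB 4600 aC (nth Apow) 22 = true := by decide +kernel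
theorem hA : ∀ m, m ≤ 22 → HasP (a ^ m) (nth Apow m) := pows_of_powsB ha pows_ok

end Cfsg.Agent.Lib.Helper92.Co2
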