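import Cfsg.Agent.Lib.Helper92.Co2.DataA

/-! # the Conway group Co2 on 4600 points: the stabiliser chain and the extraspecial subgroup (generated) -/

set_option autoImplicit false
set_option maxRecDepth 100000

namespace Cfsg.Agent.Lib.Helper92.Co2

open Cfsg
open Cfsg.Agent.Lib.Helper27
open Cfsg.Agent.Lib.Helper92
open Cfsg.Agent.Lib.Helper92.PCY

theorem chain_ok : chainB 4600 (nth Ggc) 30 (nth rhoL) (nth baseL) (nth mL) (fun i => tb (nth opL i))
    (fun i => tb (nth parL i)) (fun i => tb (nth gselL i)) (fun i => tb (nth posL i)) 11 = true := by decide +kernel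

theorem prod_ok : prodM (nth mL) 11 = 2 * 42305421312000 := by decide +kernel

theorem pair_ok : pairB 4600 zC (nth qcL) 9 = true := by decide +kernel

theorem fix_ok : fixQ 4600 zC cC (nth qcL) 9 3 (tb Qwj) = true := by decide +kernel

theorem base_ok : baseQ (nth qcL) 9 3 (nth baseL) (nthL Qwd) 11 = true := by decide +kernel

theorem y_ok : prodB 4600 yC ypC cC = true := by decide +kernel

end Cfsg.Agent.Lib.Helper92.Co2
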