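import Cfsg.Agent.Lib.Helper92.Co2.DataA
import Cfsg.Agent.Lib.Helper92.Co2.DataW
import Cfsg.Agent.Lib.Helper92.Co2.DataY

/-! # the Conway group Co2 on 4600 points: the class is closed, first generator (generated) -/

set_option autoImplicit false
set_option maxRecDepth 100000

namespace Cfsg.Agent.Lib.Helper92.Co2

open Cfsg
open Cfsg.Agent.Lib.Helper27
open Cfsg.Agent.Lib.Helper92
open Cfsg.Agent.Lib.Helper92.PCY

theorem closA0 : closG aC aiC (nth2 WT 64) (fun k => nth2 WT 64 (tb Winv k)) (nth2 YT 64) (tb2 sKl) (tb2 sRl) (tb2 jAl) baseL 56925 0 8000 = true := by decide +kernel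

theorem closA1 : closG aC aiC (nth2 WT 64) (fun k => nth2 WT 64 (tb Winv k)) (nth2 YT 64) (tb2 sKl) (tb2 sRl) (tb2 jAl) baseL 56925 8000 8000 = true := by decide +kernel

end Cfsg.Agent.Lib.Helper92.Co2
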