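import Cfsg.Agent.Lib.Helper92.Co2.DataA
import Cfsg.Agent.Lib.Helper92.Co2.DataY

/-! # the Conway group Co2 on 4600 points: the relator tests (generated) -/

set_option autoImplicit false
set_option maxRecDepth 100000

namespace Cfsg.Agent.Lib.Helper92.Co2

open Cfsg
open Cfsg.Agent.Lib.Helper27
open Cfsg.Agent.Lib.Helper92
open Cfsg.Agent.Lib.Helper92.PCY

theorem main0 : mainC 4600 (nth Apow) (nth2 YT 64) rels (tb cjT) (tb cpT) 23 0 225 = true := by decide +kernel

theorem rels_ok : relB 4600 aC zC rels = true := by decide +kernel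

end Cfsg.Agent.Lib.Helper92.Co2
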