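import Cfsg.Agent.Lib.Helper92.Co2.DataA

/-! # the Conway group Co2 on 4600 points: straight line programs (generated) -/

set_option autoImplicit false
set_option maxRecDepth 100000

namespace Cfsg.Agent.Lib.Helper92.Co2

open Cfsg
open Cfsg.Agent.Lib.Helper27
open Cfsg.Agent.Lib.Helper92
open Cfsg.Agent.Lib.Helper92.PCY

theorem az_slp : headsOK [aC, zC] (slp 4600 eC azProg [p3C, p2C, p1C, p0C]) = true := by decide +kernel

end Cfsg.Agent.Lib.Helper92.Co2
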