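import Cfsg.Agent.Lib.Helper92.Co2.DataA
import Cfsg.Agent.Lib.Helper92.Co2.DataW

/-! # the Conway group Co2 on 4600 points: the normaliser of an element of order 23 (generated) -/

set_option autoImplicit false
set_option maxRecDepth 100000

namespace Cfsg.Agent.Lib.Helper92.Co2

open Cfsg
open Cfsg.Agent.Lib.Helper27
open Cfsg.Agent.Lib.Helper92
open Cfsg.Agent.Lib.Helper92.PCY

theorem wtree2 : wtreeB 4600 (nth [aC, bC]) 2 (nth2 WT 64) (fun k => nth2 WT 64 (tb Winv k)) (tb Wpar) (tb Wgs) 128 64 = true := by decide +kernel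

theorem wtree3 : wtreeB 4600 (nth [aC, bC]) 2 (nth2 WT 64) (fun k => nth2 WT 64 (tb Winv k)) (tb Wpar) (tb Wgs) 192 61 = true := by decide +kernel

end Cfsg.Agent.Lib.Helper92.Co2
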