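import Cfsg.Agent.Lib.Helper92.Co2.Base
import Cfsg.Agent.Lib.Helper92.Co2.Run0
import Cfsg.Agent.Lib.Helper92.Co2.Run1
import Cfsg.Agent.Lib.Helper92.Co2.Run2
import Cfsg.Agent.Lib.Helper92.Co2.Run3
import Cfsg.Agent.Lib.Helper92.Co2.WTree0
import Cfsg.Agent.Lib.Helper92.Co2.WTree1
import Cfsg.Agent.Lib.Helper92.Co2.Reps0
import Cfsg.Agent.Lib.Helper92.Co2.Reps1
import Cfsg.Agent.Lib.Helper92.Co2.Cls0
import Cfsg.Agent.Lib.Helper92.Co2.Cls1
import Cfsg.Agent.Lib.Helper92.Co2.ClosA0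
import Cfsg.Agent.Lib.Helper92.Co2.ClosA1
import Cfsg.Agent.Lib.Helper92.Co2.ClosA2
import Cfsg.Agent.Lib.Helper92.Co2.ClosA3
import Cfsg.Agent.Lib.Helper92.Co2.ClosZ0
import Cfsg.Agent.Lib.Helper92.Co2.ClosZ1
import Cfsg.Agent.Lib.Helper92.Co2.ClosZ2
import Cfsg.Agent.Lib.Helper92.Co2.ClosZ3
import Cfsg.Agent.Lib.Helper92.Co2.Main0
import Cfsg.Agent.Lib.Helper92.Co2.Chain0

/-! # the Conway group Co2 on 4600 points: all automorphisms of the permutation group are inner (generated) -/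

set_option autoImplicit false
set_option maxRecDepth 100000

namespace Cfsg.Agent.Lib.Helper92.Co2

open Cfsg
open Cfsg.Agent.Lib.Helper27
open Cfsg.Agent.Lib.Helper92
open Cfsg.Agent.Lib.Helper92.PCY

theorem a_mem : a ∈ PG a z := AutSetup.a_mem
theorem z_mem : z ∈ PG a z := AutSetup.z_mem

theorem Apow_len : Apow.length = 23 := by decide +kernel

theorem st1 : ∀ d ∈ stack1, ∃ σ ∈ PG a z, HasP σ d := by
  intro d hd
  rcases List.mem_cons.1 hd with rfl | hd
  · exact ⟨z, z_mem, hz⟩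
  · obtain ⟨m, hm, rfl⟩ := exists_nth_of_mem hd
    rw [Apow_len] at hm
    exact ⟨a ^ m, (PG a z).pow_mem a_mem m, hA m (by omega)⟩

theorem mem1 : ∀ d ∈ outs1, ∃ σ ∈ PG a z, HasP σ d := slp_out (PG a z) e_id st1 run1

theorem st2 : ∀ d ∈ stack2, ∃ σ ∈ PG a z, HasP σ d := by
  intro d hd
  rcases List.mem_append.1 hd with hd | hd
  · exact mem1 d hd
  · exact st1 d hd

theorem mem2 : ∀ d ∈ outs2, ∃ σ ∈ PG a z, HasP σ d := slp_out (PG a z) e_id st2 run2
theorem mem3 : ∀ d ∈ outs3, ∃ σ ∈ PG a z, HasP σ d := slp_out (PG a z) e_id st2 run3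

theorem b_mem : b ∈ PG a z := mem_of_code (mem2 _ (by simp [outs2])) hb

/-- `a` and `z` lie in every subgroup containing the given generators. -/
theorem az_of_gens (H : Subgroup (Equiv.Perm (Fin 4600))) (h0 : ∃ σ ∈ H, HasP σ p0C) (h1 : ∃ σ ∈ H, HasP σ p1C) (h2 : ∃ σ ∈ H, HasP σ p2C) (h3 : ∃ σ ∈ H, HasP σ p3C) : PG a z ≤ H := by
  have key := slp_out H e_id (st := [p3C, p2C, p1C, p0C]) (by
    intro d hd
    simp only [List.mem_cons, List.not_mem_nil, or_false] at hd
    rcases hd with rfl | rfl | rfl | rfl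
    · exact h3
    · exact h2
    · exact h1
    · exact h0) az_slp
  unfold PG
  rw [Subgroup.closure_le]
  rintro x (rfl | hx)
  · exact mem_of_code (key aC (by simp)) ha
  · rw [Set.mem_singleton_iff.1 hx]
    exact mem_of_code (key zC (by simp)) hz

theorem order_a : orderOf a = 23 :=
  orderOf_of_code (i := 0) (by norm_num) ha e_id (by decide +kernel) (by norm_num) (by decide +kernel)

theorem z_sq : z * z = 1 := (hz.mul hz).eq_one (by decide +kernel)
theorem c_sq : c * c = 1 := (hc.mul hc).eq_one (by decide +kernel)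

theorem c_comm : ∀ x ∈ PG a z, c * x = x * c :=
  comm_closure (mul_eq_of_eqB hc ha ha hc (by decide +kernel)) (mul_eq_of_eqB hc hz hz hc (by decide +kernel))

/-- the group with the central involution adjoined. -/
def Ph : Subgroup (Equiv.Perm (Fin 4600)) := hat (PG a z) c c_sq c_comm

theorem le_Ph : PG a z ≤ Ph := le_hat _ _ _ _

theorem G_mem : ∀ d ∈ Ggc, ∃ σ ∈ Ph, HasP σ d := by
  have lift : ∀ d, (∃ σ ∈ PG a z, HasP σ d) → ∃ σ ∈ Ph, HasP σ d := by
    rintro d ⟨σ, hσ, h⟩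
    exact ⟨σ, le_Ph hσ, h⟩
  intro d hd
  rcases List.mem_append.1 hd with hd | hd
  · rcases List.mem_append.1 hd with hd | hd
    · exact lift d (mem1 d (List.mem_append_left _ hd))
    · rcases List.mem_cons.1 hd with rfl | hd
      · obtain ⟨σ, hσ, h⟩ := mem2 ypC (by simp [outs2])
        exact ⟨σ * c, Ph.mul_mem (le_Ph hσ) (c_mem_hat _ _ _ _), h.of_prodB hc y_ok⟩
      · exact lift d (mem1 d (List.mem_append_right _ hd))
  · simp only [List.mem_cons, List.not_mem_nil, or_false] at hd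
    rcases hd with rfl | rfl
    · exact ⟨z, le_Ph z_mem, hz⟩
    · exact ⟨a, le_Ph a_mem, ha⟩

theorem Ggc_len : Ggc.length = 30 := by decide +kernel
theorem base_len : baseL.length = 11 := by decide

theorem chain_le : 2 * 42305421312000 * Nat.card (St Ph (nth baseL) 11) ≤ Nat.card Ph := by
  obtain ⟨g, hgP, hg⟩ := exists_fun (H := Ph) (gc := nth Ggc) (r := 30)
    (fun j hj => G_mem _ (nth_mem (by rw [Ggc_len]; exact hj)))
  have := chain_of_chainB hg hgP chain_ok
  rwa [prod_ok] at this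

theorem card_ge : 42305421312000 ≤ Nat.card (PG a z) := (hat_facts (by norm_num) chain_le).1

theorem Q_mem : ∀ j < 9, ∃ σ ∈ PG a z, HasP σ (nth qcL j) := by
  have key : ∀ d ∈ qcL, ∃ σ ∈ PG a z, HasP σ d := by
    intro d hd
    simp only [qcL, List.mem_cons, List.not_mem_nil, or_false] at hd
    rcases hd with rfl | rfl | rfl | rfl | rfl | rfl | rfl | rfl | rfl
    · exact ⟨z, z_mem, hz⟩
    · exact mem2 _ (by simp [outs2])
    · exact mem2 _ (by simp [outs2])
    · exact mem2 _ (by simp [outs2])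
    · exact mem2 _ (by simp [outs2])
    · exact mem2 _ (by simp [outs2])
    · exact mem2 _ (by simp [outs2])
    · exact mem2 _ (by simp [outs2])
    · exact mem3 _ (by simp [outs3])
  exact fun j hj => key _ (nth_mem (by exact hj))

/-! ### the normaliser of `⟨a⟩` -/

theorem N_le : genS (two a b) 2 ≤ PG a z :=
  genS_le (forall_two (p := fun j => two a b j ∈ PG a z) a_mem b_mem)

theorem b_norm : b ∈ normZ a :=
  mem_normZ (e := 2) (e' := 12) (mul_eq_of_eqB hb ha (hA 2 (by norm_num)) hb (by decide +kernel))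
    (mul_eq_of_eqB ha hb hb (hA 12 (by norm_num)) (by decide +kernel))

theorem a_norm : a ∈ normZ a := mem_normZ (e := 1) (e' := 1) (by rw [pow_one]) (by rw [pow_one])

theorem N_norm : genS (two a b) 2 ≤ normZ a :=
  genS_le (forall_two (p := fun j => two a b j ∈ normZ a) a_norm b_norm)

theorem wtree_all : ∀ k < 253, invB 4600 (nth2 WT 64 k) (nth2 WT 64 (tb Winv k)) = true ∧
    ((k = 0 ∧ PCY.isId 4600 (nth2 WT 64 k) = true) ∨ (tb Wpar k < k ∧ tb Wgs k < 2 ∧
      prodB 4600 (nth2 WT 64 k) (nth [aC, bC] (tb Wgs k)) (nth2 WT 64 (tb Wpar k)) = true)) := by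
  intro k hk
  rcases Nat.lt_or_ge k 64 with h0 | h0
  · exact wtreeB_spec wtree0 (by omega) (by omega)
  rcases Nat.lt_or_ge k 128 with h1 | h1
  · exact wtreeB_spec wtree1 (by omega) (by omega)
  rcases Nat.lt_or_ge k 192 with h2 | h2
  · exact wtreeB_spec wtree2 (by omega) (by omega)
  exact wtreeB_spec wtree3 (by omega) (by omega)

theorem hW : ∀ k < 253, ∃ σ ∈ genS (two a b) 2, HasP σ (nth2 WT 64 k) ∧ HasP σ⁻¹ (nth2 WT 64 (tb Winv k)) :=
  W_of_wtree (g := two a b) (gc := nth [aC, bC]) (Wi := fun k => nth2 WT 64 (tb Winv k))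
    (par := tb Wpar) (gsel := tb Wgs) (forall_two ha hb) wtree_all

/-! ### the class of `z` -/

theorem reps_all : ∀ r < 225, (r = 0 ∧ nth2 YT 64 0 = zC) ∨ (tb Ypar r < r ∧ tb Ykk r < 253 ∧ ∀ t < 4600,
    en (nth2 YT 64 r) t = en zC (en (nth2 WT 64 (tb Ykk r)) (en (nth2 YT 64 (tb Ypar r))
      (en (nth2 WT 64 (tb Winv (tb Ykk r))) (en zC t))))) := by
  intro k hk
  rcases Nat.lt_or_ge k 57 with h0 | h0
  · exact repsP_spec reps0 (by omega) (by omega)
  rcases Nat.lt_or_ge k 114 with h1 | h1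
  · exact repsP_spec reps1 (by omega) (by omega)
  rcases Nat.lt_or_ge k 171 with h2 | h2
  · exact repsP_spec reps2 (by omega) (by omega)
  exact repsP_spec reps3 (by omega) (by omega)

theorem hY : ∀ r < 225, ∃ x ∈ PG a z, HasP (x * z * x⁻¹) (nth2 YT 64 r) :=
  reps_of_repsP (W := nth2 WT 64) (Wi := fun k => nth2 WT 64 (tb Winv k)) (par := tb Ypar) (kk := tb Ykk)
    hz z_sq z_mem (fun k hk => by
      obtain ⟨σ, hσ, h⟩ := hW k hk
      exact ⟨σ, N_le hσ, h⟩) reps_all

theorem cls_all : ∀ i < 56925, tb2 sKl i < 253 ∧ tb2 sRl i < 225 ∧ (i + 1 = 56925 ∨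
    fpI (nth2 WT 64) (fun k => nth2 WT 64 (tb Winv k)) (nth2 YT 64) (tb2 sKl) (tb2 sRl) baseL i < fpI (nth2 WT 64) (fun k => nth2 WT 64 (tb Winv k)) (nth2 YT 64) (tb2 sKl) (tb2 sRl) baseL (i + 1)) := by
  intro k hk
  rcases Nat.lt_or_ge k 10000 with h0 | h0
  · exact clsB_spec cls0 (by omega) (by omega)
  rcases Nat.lt_or_ge k 20000 with h1 | h1
  · exact clsB_spec cls1 (by omega) (by omega)
  rcases Nat.lt_or_ge k 30000 with h2 | h2
  · exact clsB_spec cls2 (by omega) (by omega)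
  rcases Nat.lt_or_ge k 40000 with h3 | h3
  · exact clsB_spec cls3 (by omega) (by omega)
  rcases Nat.lt_or_ge k 50000 with h4 | h4
  · exact clsB_spec cls4 (by omega) (by omega)
  exact clsB_spec cls5 (by omega) (by omega)

theorem closA_all : ∀ i < 56925, tb2 jAl i < 56925 ∧ ∀ p ∈ baseL,
    en aC (en (nth2 WT 64 (tb2 sKl i)) (en (nth2 YT 64 (tb2 sRl i)) (en (nth2 WT 64 (tb Winv (tb2 sKl i))) (en aiC p))))
      = en (nth2 WT 64 (tb2 sKl (tb2 jAl i))) (en (nth2 YT 64 (tb2 sRl (tb2 jAl i)))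
        (en (nth2 WT 64 (tb Winv (tb2 sKl (tb2 jAl i)))) p)) := by
  intro k hk
  rcases Nat.lt_or_ge k 8000 with h0 | h0
  · exact closG_spec closA0 (by omega) (by omega)
  rcases Nat.lt_or_ge k 16000 with h1 | h1
  · exact closG_spec closA1 (by omega) (by omega)
  rcases Nat.lt_or_ge k 24000 with h2 | h2
  · exact closG_spec closA2 (by omega) (by omega)
  rcases Nat.lt_or_ge k 32000 with h3 | h3
  · exact closG_spec closA3 (by omega) (by omega)
  rcases Nat.lt_or_ge k 40000 with h4 | h4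
  · exact closG_spec closA4 (by omega) (by omega)
  rcases Nat.lt_or_ge k 48000 with h5 | h5
  · exact closG_spec closA5 (by omega) (by omega)
  rcases Nat.lt_or_ge k 56000 with h6 | h6
  · exact closG_spec closA6 (by omega) (by omega)
  exact closG_spec closA7 (by omega) (by omega)

theorem closZ_all : ∀ i < 56925, tb2 jZl i < 56925 ∧ ∀ p ∈ baseL,
    en zC (en (nth2 WT 64 (tb2 sKl i)) (en (nth2 YT 64 (tb2 sRl i)) (en (nth2 WT 64 (tb Winv (tb2 sKl i))) (en zC p))))
      = en (nth2 WT 64 (tb2 sKl (tb2 jZl i))) (en (nth2 YT 64 (tb2 sRl (tb2 jZl i)))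
        (en (nth2 WT 64 (tb Winv (tb2 sKl (tb2 jZl i)))) p)) := by
  intro k hk
  rcases Nat.lt_or_ge k 8000 with h0 | h0
  · exact closG_spec closZ0 (by omega) (by omega)
  rcases Nat.lt_or_ge k 16000 with h1 | h1
  · exact closG_spec closZ1 (by omega) (by omega)
  rcases Nat.lt_or_ge k 24000 with h2 | h2
  · exact closG_spec closZ2 (by omega) (by omega)
  rcases Nat.lt_or_ge k 32000 with h3 | h3
  · exact closG_spec closZ3 (by omega) (by omega)
  rcases Nat.lt_or_ge k 40000 with h4 | h4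
  · exact closG_spec closZ4 (by omega) (by omega)
  rcases Nat.lt_or_ge k 48000 with h5 | h5
  · exact closG_spec closZ5 (by omega) (by omega)
  rcases Nat.lt_or_ge k 56000 with h6 | h6
  · exact closG_spec closZ6 (by omega) (by omega)
  exact closG_spec closZ7 (by omega) (by omega)

theorem Y0 : nth2 YT 64 0 = zC := by decide +kernel

theorem main_all : ∀ r < 225, ∀ m, 0 < m → m < 23 → ∀ τ : Equiv.Perm (Fin 4600), HasP τ (nth2 YT 64 r) →
    (∀ (w : List Bool) (mm : ℕ), ev a z w ^ mm = 1 → ev (a ^ m) τ w ^ mm = 1) → r = 0 ∧ m = 1 := by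
  intro k hk m hm0 hmp τ hτ hw
  exact mainC_spec ha hz rels_ok main0 (Nat.zero_le k) (by omega) hm0 hmp hτ (hA m (by omega)) hw

/-! ### the setup -/

theorem setup (hcard : Nat.card (PG a z) = 42305421312000) : ∃ Q, AutSetup3 a z 23 56925 Q := by
  obtain ⟨gQ, hgP, hg⟩ := exists_fun Q_mem
  have hz0 : gQ 0 = z := (hg 0 (by norm_num)).ext hz
  obtain ⟨p1, p2, p3⟩ := pairB_spec hz hg pair_ok
  obtain ⟨htriv, hcP⟩ := (hat_facts (by norm_num) chain_le).2 hcard
  obtain ⟨hcls, hcov⟩ := class_of_checks (H := genS (two a b) 2) (W := nth2 WT 64)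
    (Wi := fun k => nth2 WT 64 (tb Winv k)) (Y := nth2 YT 64) (sK := tb2 sKl) (sR := tb2 sRl)
    (jA := tb2 jAl) (jZ := tb2 jZl) (pts := baseL) (iz := 12676)
    ha hai hz z_sq N_le hW hY (by decide) cls_all
    (fun x hx hfix => htriv x ⟨le_Ph hx, fun k hk h => hfix _ (nth_mem (by rw [base_len]; exact hk)) h⟩)
    closA_all closZ_all (by norm_num) (by decide +kernel) (by decide +kernel)
  exact ⟨genS gQ 9,
    { fin := inferInstance
      pp := by norm_num
      oa := order_a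
      hp2 := by rw [hcard]; norm_num
      hQP := genS_le hgP
      hQ2 := isPGroup_genS gQ z hz0 z_sq 9 p1 p2 p3
      hQc := fun t ht hq => cent_of_fixQ hz hc c_sq c_comm z_mem hg hgP p1 (by norm_num) hz0
        (by norm_num) fix_ok base_ok htriv hcP t ht (comm_genS hq)
      z1 := ne_one_of_code (i := 0) hz (by norm_num) (by decide +kernel)
      hM := by norm_num
      hcls := hcls
      H2 := H2_of_checks (by norm_num) order_a hz Y0 N_le N_norm hcov main_all }⟩

theorem card_out (hcard : Nat.card (PG a z) = 42305421312000) : Nat.card (Cfsg.Out (PG a z)) = 1 := by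
  obtain ⟨Q, h⟩ := setup hcard
  exact h.card_out

end Cfsg.Agent.Lib.Helper92.Co2
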