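import Cfsg.Agent.Lib.Helper54.McLMain
import Cfsg.Agent.Lib.Helper92.PCY.Leech
import Cfsg.Agent.Lib.Helper92.Co2.Perm
import Cfsg.Prelude.Def_Spor_Conway

/-!
# The Conway group `Co2` in the Leech lattice and its action on 4600 vectors
-/

set_option autoImplicit false
set_option maxRecDepth 100000

namespace Cfsg.Agent.Lib.Helper92.Co2

open Cfsg
open Cfsg.Agent.Lib.Helper27
open Cfsg.Agent.Lib.Helper54
open Cfsg.Agent.Lib.Helper92.PCY

theorem tab_ok : clsTabOK' [Xv0] 32 [16] co2Tab 4600 = true := by decide +kernel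

theorem count16 : CountL [v0] 32 [16] 4600 := by
  unfold CountL
  have := co0_count_pair v0 v0_norm 16 (by decide)
  have e : mOf 16 = 4600 := by decide
  rw [← e, ← this]
  congr 1
  ext x
  show ClsL [v0] 32 [16] x ↔ _
  rw [clsL_cons, clsL_nil]
  exact and_comm

theorem cls4600_count : {x | ClsQ [Xv0] 32 [16] x}.ncard = 4600 := by
  have h1 : CountL [v0] 32 [16] {x | ClsQ [Xv0] 32 [16] x}.ncard := countL_of_codes rfl rfl
  exact h1.symm.trans count16

theorem tabD : TabData [v0] [Xv0] 32 [16] co2Tab 4600 where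
  hbs := rfl
  htab := tab_ok
  hcard := cls4600_count
  hN0 := by norm_num
  hn := by norm_num

theorem count32 : CountL [] 32 [] 196560 := by
  unfold CountL
  rw [← ncard_min]
  congr 1
  ext x
  exact clsL_nil

theorem card_fix : Nat.card (FixL [v0]) = 42305421312000 := by
  have h0 := card_FixL_nil
  have h1 := card_FixL_cons (b0 := v0) transL_nil_32 count32 (clsL_nil.2 v0_norm)
  rw [card_Co0] at h0
  rw [h0] at h1
  omega

/-- the `i`-th generator. -/
def gn (i : ℕ) : ℕ × List ℕ := co2Gens.getD i (0, [])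

theorem gn_mem {i : ℕ} (hi : i < co2Gens.length) : gn i ∈ co2Gens := by
  unfold gn
  rw [List.getD_eq_getElem _ _ hi]
  exact List.getElem_mem _

theorem gn_ok {i : ℕ} (hi : i < co2Gens.length) :
    certOK (gn i).2 = true ∧ colsOK (gn i).1 (gn i).2 = true := by
  have h := co2Gens_ok
  unfold gensOK at h
  rw [allList_iff] at h
  have := h _ (gn_mem hi)
  rwa [band_eq, Bool.and_eq_true] at this

theorem gn_fix {i : ℕ} (hi : i < co2Gens.length) : genCo0 (gn i).2 (gn_ok hi).1 ∈ FixL [v0] :=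
  mem_StabC_iff (bs := [v0]) (Xs := [Xv0]) rfl
    (genCo0_mem_StabC co2_base co2Gens_ok co2_fix _ (gn_mem hi) _)

theorem act0 : TabData.actOK (gn 0).1 (gn 0).2 co2Tab 4600 p0C = true := by decide +kernel
theorem act1 : TabData.actOK (gn 1).1 (gn 1).2 co2Tab 4600 p1C = true := by decide +kernel
theorem act2 : TabData.actOK (gn 2).1 (gn 2).2 co2Tab 4600 p2C = true := by decide +kernel
theorem act3 : TabData.actOK (gn 3).1 (gn 3).2 co2Tab 4600 p3C = true := by decide +kernel

theorem len : co2Gens.length = 4 := by decide +kernel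

theorem range_code {i code : ℕ} (hi : i < co2Gens.length)
    (h : TabData.actOK (gn i).1 (gn i).2 co2Tab 4600 code = true) :
    ∃ σ ∈ tabD.phi.range, HasP σ code :=
  ⟨_, ⟨⟨genCo0 (gn i).2 (gn_ok hi).1, gn_fix hi⟩, rfl⟩, tabD.hasP_gen (gn_ok hi).1 (gn_ok hi).2 _ h⟩

theorem PG_le : PG a z ≤ tabD.phi.range :=
  az_of_gens _ (range_code (i := 0) (by rw [len]; norm_num) act0)
    (range_code (i := 1) (by rw [len]; norm_num) act1)
    (range_code (i := 2) (by rw [len]; norm_num) act2)
    (range_code (i := 3) (by rw [len]; norm_num) act3)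

theorem iso_fix : Nonempty (FixL [v0] ≃* PG a z) ∧ Nat.card (PG a z) = 42305421312000 := by
  have : Finite (FixL [v0]) := Nat.finite_of_card_ne_zero (by rw [card_fix]; norm_num)
  have := iso_of_le tabD.phi (PG a z) PG_le (by rw [card_fix]; exact card_ge)
  rwa [card_fix] at this

/-! ### the group of the statement -/

theorem normU : sqNorm (Spor.leechU : GolayPt → ℤ) = 32 := by
  show sqNorm Spor.vecU = 32
  decide +kernel

theorem conj_std : ConjL [v0] [Spor.leechU] := by
  obtain ⟨g, hg⟩ := exists_smul_v0 Spor.leechU normU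
  exact ⟨g, by rw [List.map_cons, List.map_nil, hg]⟩

/-- `Co2` as a pointwise stabiliser. -/
def co2Equiv : ↥Spor.Co2 ≃* FixL [Spor.leechU] where
  toFun g := ⟨⟨g.1, g.2.1⟩, by
    intro b hb
    simp only [List.mem_cons, List.not_mem_nil, or_false] at hb
    rcases hb with rfl
    exact g.2.2⟩
  invFun g := ⟨g.1.1, ⟨g.1.2, g.2 _ (by simp)⟩⟩
  left_inv _ := rfl
  right_inv _ := rfl
  map_mul' _ _ := rfl

theorem card_out_Co2 : Nat.card (Cfsg.Out ↥Spor.Co2) = 1 := by
  obtain ⟨⟨e1⟩, hc⟩ := iso_fix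
  obtain ⟨e2⟩ := nonempty_FixL_congr conj_std
  rw [card_out_congr ((co2Equiv.trans e2.symm).trans e1)]
  exact card_out hc

end Cfsg.Agent.Lib.Helper92.Co2
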